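import Groth.Agent.GaDual80.Univ
import Mathlib.RingTheory.AdjoinRoot
import Mathlib.Algebra.DualNumber
import Mathlib.NumberTheory.Wilson

/-!
# The additive group is its own double dual in positive characteristic
-/

set_option autoImplicit false
set_option backward.isDefEq.respectTransparency.types false
set_option linter.style.haveILetI false

universe u

open CategoryTheory Limits AlgebraicGeometry Opposite MonObj
open Groth.Agent.Adeq2Lib Groth.Agent.DualNorm79 Groth.Agent.DualGm79

namespace Groth.Agent.GaDual80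

variable {p : ℕ} [hp : Fact p.Prime] {R : Type u} [CommRing R]

theorem isUnit_fac (hR : (p : R) = 0) {j : ℕ} (hj : j < p) : IsUnit (j.factorial : R) := by
  have hco : IsCoprime (j.factorial : ℤ) p := Nat.isCoprime_iff_coprime.2 (Nat.coprime_comm.1
    (hp.out.coprime_iff_not_dvd.2 fun h => (not_le.2 hj) (hp.out.dvd_factorial.1 h)))
  obtain ⟨a, b, hab⟩ := hco
  refine IsUnit.of_mul_eq_one_right (a : R) ?_
  have := congrArg (Int.cast : ℤ → R) hab
  simpa [hR] using this

theorem fac_pred (hR : (p : R) = 0) : ((p - 1).factorial : R) = -1 := by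
  have h := ZMod.wilsons_lemma p
  have h1 : p ∣ (p - 1).factorial + 1 := by
    rw [← ZMod.natCast_eq_zero_iff, Nat.cast_add, h, Nat.cast_one, neg_add_cancel]
  obtain ⟨c, hc⟩ := h1
  have := congrArg (Nat.cast : ℕ → R) hc
  rw [Nat.cast_add, Nat.cast_one, Nat.cast_mul, hR, zero_mul] at this
  exact eq_neg_of_add_eq_zero_left this

theorem map_inverse {R' : Type*} [CommRing R'] (h : R →+* R') {x : R} (hx : IsUnit x) :
    h (Ring.inverse x) = Ring.inverse (h x) := by
  obtain ⟨v, rfl⟩ := hx
  rw [Ring.inverse_unit, show h (v : R) = (Units.map (h : R →* R') v : R'ˣ) from rfl, Ring.inverse_unit]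
  rfl

variable (p) in
/-- The truncated exponential. -/
noncomputable def ex (x : R) : R := ∑ j ∈ Finset.range p, Ring.inverse (j.factorial : R) * x ^ j

theorem map_ex {R' : Type u} [CommRing R'] (h : R →+* R') (hR : (p : R) = 0) (x : R) :
    h (ex p x) = ex p (h x) := by
  rw [ex, ex, map_sum]
  refine Finset.sum_congr rfl fun j hj => ?_
  rw [map_mul, map_pow, map_inverse h (isUnit_fac hR (Finset.mem_range.1 hj)), map_natCast]

theorem expp_eq (hR : (p : R) = 0) (b : R) (n : ℕ) :
    GaChar.expp p b n = ex p (Polynomial.C b * Polynomial.X ^ p ^ n) := by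
  rw [GaChar.expp, ex]
  refine Finset.sum_congr rfl fun j hj => ?_
  rw [mul_pow, ← pow_mul, mul_comm (p ^ n) j, map_mul, map_pow, map_inverse _ (isUnit_fac hR (Finset.mem_range.1 hj)),
    map_natCast, _root_.mul_assoc]

omit hp in
theorem natCast_eq_zero_poly (hR : (p : R) = 0) : (p : Polynomial R) = 0 := by
  rw [← map_natCast Polynomial.C, hR, map_zero]

theorem map_expp {R' : Type u} [CommRing R'] (h : R →+* R') (hR : (p : R) = 0) (b : R) (n : ℕ) :
    (GaChar.expp p b n).map h = GaChar.expp p (h b) n := by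
  rw [expp_eq hR, expp_eq (by rw [← map_natCast h, hR, map_zero]), ← Polynomial.coe_mapRingHom,
    map_ex _ (natCast_eq_zero_poly hR), map_mul, map_pow, Polynomial.coe_mapRingHom, Polynomial.map_C,
    Polynomial.map_X]

theorem eval_expp (hR : (p : R) = 0) (b x : R) (n : ℕ) :
    (GaChar.expp p b n).eval x = ex p (b * x ^ p ^ n) := by
  rw [expp_eq hR, ← Polynomial.coe_evalRingHom, map_ex _ (natCast_eq_zero_poly hR)]
  simp

theorem ex_zero : ex p (0 : R) = 1 := by
  rw [ex, Finset.sum_eq_single 0]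
  · simp
  · exact fun j _ hj => by rw [zero_pow hj, mul_zero]
  · exact fun h => absurd (Finset.mem_range.2 hp.out.pos) h

theorem ex_sq_zero {e : R} (he : e ^ 2 = 0) : ex p e = 1 + e := by
  rw [ex, ← Finset.sum_subset (Finset.range_subset_range.2 hp.out.two_le)
    (fun j _ hj => by rw [pow_eq_zero_of_le (not_lt.1 (Finset.mem_range.not.1 hj)) he, mul_zero])]
  simp [Finset.sum_range_succ]

/-- The addition rule of truncated exponentials. -/
theorem ex_add (hR : (p : R) = 0) {b e : R} (hb : b ^ p = 0) (he : e ^ 2 = 0) :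
    ex p b * ex p e = ex p (b + e) * ex p (-(e * b ^ (p - 1))) := by
  obtain ⟨q, hq⟩ : ∃ q, p = q + 1 := ⟨p - 1, by have := hp.out.pos; omega⟩
  have he2 : ∀ j : ℕ, (b + e) ^ j = b ^ j + j * b ^ (j - 1) * e := by
    intro j
    induction j with
    | zero => simp
    | succ j ih =>
      rw [pow_succ, ih]
      cases j with
      | zero => simp
      | succ j =>
        simp only [Nat.add_sub_cancel]
        push_cast
        linear_combination (((j : R) + 1) * b ^ j) * he
  have hw : Ring.inverse (q.factorial : R) = -1 := by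
    have h1 := fac_pred (p := p) hR
    rw [hq, Nat.add_sub_cancel] at h1
    rw [h1, show (-1 : R) = ((-1 : Rˣ) : R) from rfl, Ring.inverse_unit]
    simp
  have hsum : ex p (b + e) = ex p b + e * ∑ j ∈ Finset.range q, Ring.inverse (j.factorial : R) * b ^ j := by
    rw [ex, ex, hq, Finset.sum_range_succ', Finset.sum_range_succ' (fun j => Ring.inverse (j.factorial : R) * b ^ j),
      Finset.mul_sum]
    simp only [pow_zero]
    rw [add_right_comm _ _ (∑ j ∈ Finset.range q, e * _), ← Finset.sum_add_distrib]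
    congr 1
    refine Finset.sum_congr rfl fun j hj => ?_
    have hj' : j + 1 < p := by have := Finset.mem_range.1 hj; omega
    have hc : Ring.inverse ((j + 1).factorial : R) * ((j + 1 : ℕ) : R) = Ring.inverse (j.factorial : R) := by
      have h1 := Ring.inverse_mul_cancel _ (isUnit_fac (p := p) hR hj')
      have h2 := Ring.mul_inverse_cancel _ (isUnit_fac (p := p) hR (show j < p by omega))
      have h3 : ((j + 1).factorial : R) = ((j + 1 : ℕ) : R) * (j.factorial : R) := by
        rw [← Nat.cast_mul, Nat.factorial_succ]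
      linear_combination Ring.inverse (j.factorial : R) * h1
        - Ring.inverse ((j + 1).factorial : R) * ((j + 1 : ℕ) : R) * h2
        - Ring.inverse ((j + 1).factorial : R) * Ring.inverse (j.factorial : R) * h3
    rw [he2, Nat.add_sub_cancel]
    linear_combination (b ^ j * e) * hc
  have htop : ex p b = (∑ j ∈ Finset.range q, Ring.inverse (j.factorial : R) * b ^ j) + -(b ^ q) := by
    rw [ex, hq, Finset.sum_range_succ, hw]
    ring
  have hbq : b ^ q * ex p b = b ^ q := by
    rw [ex, Finset.mul_sum, Finset.sum_eq_single 0]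
    · simp
    · intro j _ hj
      rw [mul_left_comm, ← pow_add, pow_eq_zero_of_le (by omega) hb, mul_zero]
    · exact fun h => absurd (Finset.mem_range.2 hp.out.pos) h
  rw [ex_sq_zero he, show p - 1 = q by omega,
    ex_sq_zero (show (-(e * b ^ q)) ^ 2 = 0 by rw [neg_sq, mul_pow, he, zero_mul]), hsum]
  linear_combination e * htop + e * hbq +
    ((b ^ q) * ∑ j ∈ Finset.range q, Ring.inverse (j.factorial : R) * b ^ j) * he

theorem expp_add (hR : (p : R) = 0) {b e : R} (hb : b ^ p = 0) (he : e ^ 2 = 0) (i : ℕ) :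
    GaChar.expp p b i * GaChar.expp p e i =
      GaChar.expp p (b + e) i * GaChar.expp p (-(e * b ^ (p - 1))) (i + 1) := by
  rw [expp_eq hR, expp_eq hR, expp_eq hR, expp_eq hR, ex_add (natCast_eq_zero_poly hR)
    (by rw [mul_pow, ← map_pow, hb, map_zero, zero_mul]) (by rw [mul_pow, ← map_pow, he, map_zero, zero_mul]),
    ← add_mul, ← map_add]
  congr 2
  rw [map_neg, map_mul, map_pow, mul_pow, ← pow_mul, show p ^ (i + 1) = p ^ i + p ^ i * (p - 1) by
    rw [pow_succ, add_comm (p ^ i), ← mul_add_one, show p - 1 + 1 = p by have := hp.out.pos; omega], pow_add]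
  ring

theorem isChar_expp' (hR : (p : R) = 0) {b : R} (hb : b ^ p = 0) (n : ℕ) :
    (GaChar.expp p b n).eval 0 = 1 ∧
      Polynomial.aeval (MvPolynomial.X 0 + MvPolynomial.X 1 : MvPolynomial (Fin 2) R) (GaChar.expp p b n) =
        Polynomial.aeval (MvPolynomial.X 0 : MvPolynomial (Fin 2) R) (GaChar.expp p b n) *
          Polynomial.aeval (MvPolynomial.X 1 : MvPolynomial (Fin 2) R) (GaChar.expp p b n) := by
  cases subsingleton_or_nontrivial R
  · exact ⟨Subsingleton.elim _ _, Subsingleton.elim _ _⟩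
  · haveI : CharP R p := (CharP.charP_iff_prime_eq_zero hp.out).2 hR
    exact ⟨GaChar.eval_zero_expp p b n, (GaChar.isChar_coe_iff _).1 (GaChar.isChar_expp p hb n)⟩

omit hp in
theorem natCast_of_hom {R' : Type u} [CommRing R'] (h : R →+* R') (hR : (p : R) = 0) : (p : R') = 0 := by
  rw [← map_natCast h, hR, map_zero]

variable {S : Scheme.{u}} {C : Type u} [CommRing C] {a : Spec (CommRingCat.of C) ⟶ S}

variable (a) in
/-- The basic characters. -/
noncomputable def ch (hC : (p : C) = 0) (b : C) (hb : b ^ p = 0) (i : ℕ) :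
    (GaS S).over (Over.mk a) ⟶ (GmS S).over (Over.mk a) :=
  mk a (GaChar.expp p b i) (isChar_expp' hC hb i).1 (isChar_expp' hC hb i).2

theorem cfun_ch (hC : (p : C) = 0) (b : C) (hb : b ^ p = 0) (i : ℕ) :
    cfun (ch a hC b hb i) = GaChar.expp p b i := cfun_mk _ _ _

variable (hC : (p : C) = 0) (φ : (dualS (GaS S)).over (Over.mk a) ⟶ (GmS S).over (Over.mk a))

/-- The value on a basic character. -/
noncomputable def G (h : C →+* R) (b : R) (hb : b ^ p = 0) (i : ℕ) : R :=
  gv (val φ (toBase a h) (ch (sMap a h) (natCast_of_hom h hC) b hb i))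

theorem G_nat {R' : Type u} [CommRing R'] (ψ : R →+* R') (h : C →+* R) (h' : C →+* R') (hh : ψ.comp h = h')
    (b : R) (hb : b ^ p = 0) (b' : R') (hbb : ψ b = b') (hb' : b' ^ p = 0) (i : ℕ) :
    G hC φ h' b' hb' i = ψ (G hC φ h b hb i) := by
  subst hh hbb
  let m : Over.mk (sMap a (ψ.comp h)) ⟶ Over.mk (sMap a h) := Over.homMk (Spec.map (CommRingCat.ofHom ψ)) (by
    show _ ≫ _ ≫ a = _ ≫ a
    rw [← Category.assoc, ← Spec.map_comp]
    rfl)
  have hm : m ≫ toBase a h = toBase a (ψ.comp h) := Over.OverMorphism.ext (Spec.map_comp _ _).symm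
  have hch : AffVan.rA (dualS (GaS S)) m (ch (sMap a h) (natCast_of_hom h hC) b hb i) =
      ch (sMap a (ψ.comp h)) (natCast_of_hom (ψ.comp h) hC) (ψ b) hb' i := by
    refine eq_of_cfun _ _ ?_
    rw [cfun_res _ m ψ rfl, cfun_ch, cfun_ch, map_expp ψ (natCast_of_hom h hC)]
  rw [G, G, ← gv_res m ψ rfl, val_res φ m _ _ hm, hch]

theorem G_mul (h : C →+* R) {b e : R} (hb : b ^ p = 0) (he : e ^ 2 = 0) (i : ℕ) (hbe : (b + e) ^ p = 0)
    (hep : e ^ p = 0) (hc : (-(e * b ^ (p - 1))) ^ p = 0) :
    G hC φ h b hb i * G hC φ h e hep i =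
      G hC φ h (b + e) hbe i * G hC φ h (-(e * b ^ (p - 1))) hc (i + 1) := by
  rw [G, G, G, G, ← gv_add, ← gv_add, ← map_add, ← map_add]
  congr 2
  refine eq_of_cfun (ch (sMap a h) (natCast_of_hom h hC) b hb i + ch (sMap a h) (natCast_of_hom h hC) e hep i)
    (ch (sMap a h) (natCast_of_hom h hC) (b + e) hbe i +
      ch (sMap a h) (natCast_of_hom h hC) (-(e * b ^ (p - 1))) hc (i + 1)) ?_
  rw [cfun_add, cfun_add, cfun_ch, cfun_ch, cfun_ch, cfun_ch]
  exact expp_add (natCast_of_hom h hC) hb he i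

variable (C p) in
/-- The universal ring of an element with vanishing `p`-th power. -/
abbrev B : Type u := AdjoinRoot (Polynomial.X ^ p : Polynomial C)

omit hp in
theorem root_pow : (AdjoinRoot.root (Polynomial.X ^ p : Polynomial C)) ^ p = 0 := by
  have := AdjoinRoot.eval₂_root (Polynomial.X ^ p : Polynomial C)
  simpa using this

omit hp in
theorem poly_ext {P Q : Polynomial C} (hP : ∀ j, p ≤ j → P.coeff j = 0) (hQ : ∀ j, p ≤ j → Q.coeff j = 0)
    (h : AdjoinRoot.mk (Polynomial.X ^ p) P = AdjoinRoot.mk (Polynomial.X ^ p : Polynomial C) Q) : P = Q := by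
  rw [AdjoinRoot.mk_eq_mk, Polynomial.X_pow_dvd_iff] at h
  ext j
  rcases lt_or_ge j p with hj | hj
  · exact sub_eq_zero.1 (by rw [← Polynomial.coeff_sub]; exact h j hj)
  · rw [hP j hj, hQ j hj]

/-- The polynomial of the values on the basic characters of index `i`. -/
noncomputable def P (i : ℕ) : Polynomial C :=
  AdjoinRoot.modByMonicHom (Polynomial.monic_X_pow p) (G hC φ (AdjoinRoot.of _) (AdjoinRoot.root _) root_pow i)

theorem coeff_P (i j : ℕ) (hj : p ≤ j) : (P hC φ i).coeff j = 0 := by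
  cases subsingleton_or_nontrivial C
  · exact Subsingleton.elim _ _
  obtain ⟨f, hf⟩ := AdjoinRoot.mk_surjective (G hC φ (AdjoinRoot.of _) (AdjoinRoot.root _) root_pow i)
  rw [P, ← hf, AdjoinRoot.modByMonicHom_mk]
  refine Polynomial.coeff_eq_zero_of_degree_lt ?_
  refine lt_of_lt_of_le (Polynomial.degree_modByMonic_lt _ (Polynomial.monic_X_pow p)) ?_
  rw [Polynomial.degree_X_pow]
  exact_mod_cast hj

theorem G_eq (h : C →+* R) (b : R) (hb : b ^ p = 0) (i : ℕ) :
    G hC φ h b hb i = (P hC φ i).eval₂ h b := by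
  let ψ : B p C →+* R := AdjoinRoot.lift h b (by simp [hb])
  rw [G_nat hC φ ψ (AdjoinRoot.of _) h (RingHom.ext fun c => by simp [ψ]) (AdjoinRoot.root _) root_pow b
    (AdjoinRoot.lift_root _) hb i]
  conv_lhs => rw [← AdjoinRoot.mk_leftInverse (Polynomial.monic_X_pow p)
    (G hC φ (AdjoinRoot.of _) (AdjoinRoot.root _) root_pow i)]
  exact AdjoinRoot.lift_mk _ _

theorem coeff_P_zero (i : ℕ) : (P hC φ i).coeff 0 = 1 := by
  have h := G_eq hC φ (RingHom.id C) 0 (zero_pow hp.out.ne_zero) i
  rw [Polynomial.eval₂_at_zero, RingHom.id_apply] at h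
  rw [← h, G, show ch (sMap a (RingHom.id C)) (natCast_of_hom (RingHom.id C) hC) (0 : C) (zero_pow hp.out.ne_zero) i
    = 0 from eq_of_cfun _ _ ?_]
  · refine (congrArg gv (map_zero (val φ (toBase a (RingHom.id C))))).trans gv_zero
  · rw [cfun_ch, cfun_zero, expp_eq (natCast_of_hom (RingHom.id C) hC), map_zero, zero_mul, ex_zero]

open DualNumber TrivSqZeroExt in
theorem P_rel (i : ℕ) : Polynomial.C ((P hC φ i).coeff 1) * P hC φ i =
    Polynomial.derivative (P hC φ i) - Polynomial.C ((P hC φ (i + 1)).coeff 1) * Polynomial.X ^ (p - 1) := by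
  let T := DualNumber (B p C)
  let β : B p C := AdjoinRoot.root _
  let h : C →+* T := (inlHom (B p C) (B p C)).comp (AdjoinRoot.of _)
  have hT : (p : T) = 0 := natCast_of_hom h hC
  have hε : (ε : T) ^ 2 = 0 := by rw [sq, eps_mul_eps]
  have hβ : (inl β : T) ^ p = 0 := by rw [inl_pow, root_pow, inl_zero]
  have hεp : (ε : T) ^ p = 0 := pow_eq_zero_of_le hp.out.two_le hε
  have hsum : ((inl β : T) + ε) ^ p = 0 := by
    obtain ⟨r, hr⟩ := exists_add_pow_prime_eq hp.out (inl β : T) ε
    rw [hr, hβ, hεp, hT]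
    simp
  have hc : (-(ε * (inl β : T) ^ (p - 1))) ^ p = 0 := by rw [neg_pow, mul_pow, hεp, zero_mul, mul_zero]
  have key := G_mul hC φ h hβ hε i hsum hεp hc
  simp only [G_eq] at key
  have hinl : ∀ (Q : Polynomial C) (x : B p C), Q.eval₂ h (inl x) = inl (Q.eval₂ (AdjoinRoot.of _) x) :=
    fun Q x => (Polynomial.hom_eval₂ Q (AdjoinRoot.of _) (inlHom (B p C) (B p C)) x).symm
  have htaylor : ∀ (Q : Polynomial C) (x e : T), e ^ 2 = 0 →
      Q.eval₂ h (x + e) = Q.eval₂ h x + (Polynomial.derivative Q).eval₂ h x * e := fun Q x e he => by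
    rw [← Polynomial.eval_map, Polynomial.eval_add_of_sq_eq_zero _ _ _ he, Polynomial.derivative_map,
      Polynomial.eval_map, Polynomial.eval_map]
  have hone : ∀ (j : ℕ) (e : T), e ^ 2 = 0 → (P hC φ j).eval₂ h e = 1 + h ((P hC φ j).coeff 1) * e := fun j e he => by
    have h0 := htaylor (P hC φ j) 0 e he
    rw [zero_add, Polynomial.eval₂_at_zero, Polynomial.eval₂_at_zero, coeff_P_zero, map_one,
      Polynomial.coeff_derivative] at h0
    simpa using h0
  have hc2 : (-(ε * (inl β : T) ^ (p - 1))) ^ 2 = 0 := by rw [neg_sq, mul_pow, hε, zero_mul]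
  rw [htaylor _ _ _ hε, hone i _ hε, hone (i + 1) _ hc2, hinl, hinl, inl_pow] at key
  have hPβ : (P hC φ i).eval₂ (AdjoinRoot.of _) β * β ^ (p - 1) = β ^ (p - 1) := by
    rw [Polynomial.eval₂_eq_sum_range, Finset.sum_mul, Finset.sum_eq_single 0]
    · simp [coeff_P_zero]
    · intro j _ hj
      rw [_root_.mul_assoc, ← pow_add, show β ^ (j + (p - 1)) = 0 from
        pow_eq_zero_of_le (show p ≤ j + (p - 1) by omega) root_pow, mul_zero]
    · intro h; exact absurd (Finset.mem_range.2 (Nat.succ_pos _)) h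
  have hPβ' : (inl ((P hC φ i).eval₂ (AdjoinRoot.of _) β) : T) * inl (β ^ (p - 1)) = inl (β ^ (p - 1)) := by
    rw [inl_mul_inl, hPβ]
  set Q : T := inl ((P hC φ i).eval₂ (AdjoinRoot.of _) β)
  set Q' : T := inl ((Polynomial.derivative (P hC φ i)).eval₂ (AdjoinRoot.of _) β)
  set W : T := inl (β ^ (p - 1))
  have hz : (ε : T) * (h ((P hC φ i).coeff 1) * Q - Q' + h ((P hC φ (i + 1)).coeff 1) * W) = 0 := by
    linear_combination key - (ε * h ((P hC φ (i + 1)).coeff 1)) * hPβ'
      - (Q' * W * h ((P hC φ (i + 1)).coeff 1)) * hε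
  have k1 : AdjoinRoot.of (Polynomial.X ^ p) ((P hC φ i).coeff 1) * (P hC φ i).eval₂ (AdjoinRoot.of _) β -
      (Polynomial.derivative (P hC φ i)).eval₂ (AdjoinRoot.of _) β +
      AdjoinRoot.of (Polynomial.X ^ p) ((P hC φ (i + 1)).coeff 1) * β ^ (p - 1) = 0 := by
    have h1 : (inr 1 : T) * inl (AdjoinRoot.of (Polynomial.X ^ p) ((P hC φ i).coeff 1) *
        (P hC φ i).eval₂ (AdjoinRoot.of _) β - (Polynomial.derivative (P hC φ i)).eval₂ (AdjoinRoot.of _) β +
        AdjoinRoot.of (Polynomial.X ^ p) ((P hC φ (i + 1)).coeff 1) * β ^ (p - 1)) = 0 := by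
      rw [inl_add, inl_sub, inl_mul, inl_mul]
      exact hz
    rw [inr_mul_inl] at h1
    simpa using congrArg TrivSqZeroExt.snd h1
  have hlow : ∀ (c : C) (j : ℕ), p ≤ j → (Polynomial.C c * P hC φ i).coeff j = 0 := fun c j hj => by
    rw [Polynomial.coeff_C_mul, coeff_P hC φ i j hj, mul_zero]
  refine poly_ext (p := p) (hlow _) (fun j hj => ?_) ?_
  · rw [Polynomial.coeff_sub, Polynomial.coeff_derivative, coeff_P hC φ i (j + 1) (by omega), zero_mul,
      Polynomial.coeff_C_mul_X_pow, if_neg (by have := hp.out.pos; omega), sub_zero]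
  · rw [map_mul, map_sub, map_mul, map_pow, AdjoinRoot.mk_C, AdjoinRoot.mk_C, AdjoinRoot.mk_X]
    have hmk : ∀ Q : Polynomial C, AdjoinRoot.mk (Polynomial.X ^ p) Q = Q.eval₂ (AdjoinRoot.of _) β := fun Q => by
      rw [← AdjoinRoot.aeval_eq]; rfl
    rw [hmk, hmk]
    linear_combination k1

theorem coeff_P_eq (i : ℕ) : ∀ j, j < p →
    (P hC φ i).coeff j = Ring.inverse (j.factorial : C) * (P hC φ i).coeff 1 ^ j := by
  intro j
  induction j with
  | zero => intro _; simp [coeff_P_zero]
  | succ j ih =>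
    intro hj
    have h := congrArg (fun Q => Polynomial.coeff Q j) (P_rel hC φ i)
    simp only [Polynomial.coeff_C_mul, Polynomial.coeff_sub, Polynomial.coeff_derivative,
      Polynomial.coeff_X_pow, if_neg (show j ≠ p - 1 by omega), mul_zero, sub_zero] at h
    rw [ih (by omega)] at h
    have h1 := Ring.inverse_mul_cancel _ (isUnit_fac (p := p) hC hj)
    have h2 := Ring.mul_inverse_cancel _ (isUnit_fac (p := p) hC (show j < p by omega))
    have h3 : ((j + 1).factorial : C) = ((j : C) + 1) * (j.factorial : C) := by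
      rw [Nat.factorial_succ, Nat.cast_mul, Nat.cast_add, Nat.cast_one]
    set v := Ring.inverse ((j + 1).factorial : C)
    set w := Ring.inverse (j.factorial : C)
    set t := (P hC φ i).coeff 1
    linear_combination -(v * (j.factorial : C)) * h - ((P hC φ i).coeff (j + 1)) * h1 +
      (v * ((P hC φ i).coeff (j + 1))) * h3 + (v * t ^ (j + 1)) * h2

theorem coeff_one_succ (i : ℕ) : (P hC φ (i + 1)).coeff 1 = (P hC φ i).coeff 1 ^ p := by
  have h := congrArg (fun Q => Polynomial.coeff Q (p - 1)) (P_rel hC φ i)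
  have hp1 : p - 1 + 1 = p := by have := hp.out.pos; omega
  simp only [Polynomial.coeff_C_mul, Polynomial.coeff_sub, Polynomial.coeff_derivative,
    Polynomial.coeff_X_pow, if_true, mul_one, hp1, coeff_P hC φ i p le_rfl, zero_mul, zero_sub] at h
  rw [coeff_P_eq hC φ i (p - 1) (by omega), fac_pred hC, show (-1 : C) = ((-1 : Cˣ) : C) from rfl, Ring.inverse_unit,
    inv_neg, inv_one] at h
  have e := pow_succ (((P hC φ i).coeff 1)) (p - 1)
  rw [hp1] at e
  rw [e]
  push_cast at h
  linear_combination h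

theorem G_ex (h : C →+* R) (b : R) (hb : b ^ p = 0) (i : ℕ) :
    G hC φ h b hb i = ex p (b * h ((P hC φ 0).coeff 1) ^ p ^ i) := by
  have ht : (P hC φ i).coeff 1 = (P hC φ 0).coeff 1 ^ p ^ i := by
    induction i with
    | zero => simp
    | succ i ih => rw [coeff_one_succ, ih, ← pow_mul, pow_succ]
  cases subsingleton_or_nontrivial C
  · haveI : Subsingleton R := RingHom.codomain_trivial h
    exact Subsingleton.elim _ _
  rw [G_eq, Polynomial.eval₂_eq_sum_range' h (n := p) ?_ b, ex]
  · refine Finset.sum_congr rfl fun j hj => ?_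
    rw [coeff_P_eq hC φ i j (Finset.mem_range.1 hj), map_mul, map_pow, map_inverse h
      (isUnit_fac hC (Finset.mem_range.1 hj)), map_natCast, ht, map_pow, mul_pow]
    ring
  · by_contra hlt
    exact Polynomial.leadingCoeff_ne_zero.2 (fun h0 => by simp [h0, hp.out.pos] at hlt)
      (coeff_P hC φ i _ (not_lt.1 hlt))

include hC in
/-- The double duality map is surjective over spectra. -/
theorem exists_eq_bidual : ∃ x : (GaS S).obj.obj (op (Over.mk a)),
    (CGrpSh2.toDoubleDual Scheme.fppfPrecoverage (GaS S)).hom.app (op (Over.mk a)) x = φ := by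
  refine ⟨ofV a ((P hC φ 0).coeff 1), ext_spec fun R _ b k χ => ?_⟩
  obtain ⟨h, hk⟩ := exists_hom k
  obtain rfl : b = sMap a h := by
    rw [sMap, ← hk]
    exact (Over.w k).symm
  obtain rfl : k = toBase a h := Over.OverMorphism.ext hk
  refine gv_ext ?_
  rw [gv_val_bidual _ _ h rfl, av_ofV]
  have hR : (p : R) = 0 := natCast_of_hom h hC
  cases subsingleton_or_nontrivial R
  · exact Subsingleton.elim _ _
  haveI : CharP R p := (CharP.charP_iff_prime_eq_zero hp.out).2 hR
  let χ' : (GaS S).over (Over.mk (sMap a h)) ⟶ (GmS S).over (Over.mk (sMap a h)) := χ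
  obtain ⟨c, hc, hprod⟩ := GaChar.eq_prod_of_isChar p (eval_zero_cfun χ') (isChar_cfun χ')
    (m := (cfun χ').natDegree) (Nat.lt_pow_self hp.out.one_lt)
  have hχ : χ' = ∑ n ∈ Finset.range (cfun χ').natDegree, ch (sMap a h) hR (c n) (hc n) n := by
    refine eq_of_cfun _ _ ?_
    rw [cfun_sum]
    refine hprod.trans (Finset.prod_congr rfl fun n _ => ?_)
    rw [cfun_ch]
  show (cfun χ').eval _ = gv (val φ (toBase a h) χ')
  have hgs : ∀ (s : Finset ℕ) (f : ℕ → (GmS S).obj.obj (op (Over.mk (sMap a h)))),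
      gv (∑ n ∈ s, f n) = ∏ n ∈ s, gv (f n) := fun s f => by
    rw [gv, fn_sum, map_prod]
    rfl
  rw [hprod, Polynomial.eval_prod]
  conv_rhs => rw [hχ]
  refine Eq.trans ?_ ((congrArg gv (map_sum (val φ (toBase a h)) _ _)).trans (hgs _ _)).symm
  refine Finset.prod_congr rfl fun n _ => ?_
  show _ = G hC φ h (c n) (hc n) n
  rw [G_ex, eval_expp hR]

set_option maxHeartbeats 1000000 in
include hC in
/-- The double duality map is injective over spectra. -/
theorem bidual_injective : Function.Injective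
    ((CGrpSh2.toDoubleDual Scheme.fppfPrecoverage (GaS S)).hom.app (op (Over.mk a))) := by
  intro x y hxy
  let h : C →+* B p C := AdjoinRoot.of _
  have hB : (p : B p C) = 0 := natCast_of_hom h hC
  have key : ∀ z : (GaS S).obj.obj (op (Over.mk a)),
      gv (val ((CGrpSh2.toDoubleDual Scheme.fppfPrecoverage (GaS S)).hom.app (op (Over.mk a)) z) (toBase a h)
        (ch (sMap a h) hB (AdjoinRoot.root _) root_pow 0)) = ex p (AdjoinRoot.root _ * h (av z)) := by
    intro z
    rw [gv_val_bidual _ _ h rfl, cfun_ch, eval_expp hB, pow_zero, pow_one]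
  have h' : ex p (AdjoinRoot.root (Polynomial.X ^ p : Polynomial C) * h (av x)) =
      ex p (AdjoinRoot.root (Polynomial.X ^ p : Polynomial C) * h (av y)) := by
    rw [← key x, ← key y, hxy]
  have hpoly : ∀ z : C, ex p (AdjoinRoot.root _ * h z) = AdjoinRoot.mk (Polynomial.X ^ p : Polynomial C)
      (GaChar.expp p z 0) := by
    intro z
    rw [expp_eq hC, map_ex _ (natCast_eq_zero_poly hC), map_mul, map_pow, AdjoinRoot.mk_C, AdjoinRoot.mk_X,
      pow_zero, pow_one, mul_comm]
  rw [hpoly, hpoly] at h'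
  cases subsingleton_or_nontrivial C
  · exact av_ext (Subsingleton.elim _ _)
  haveI : CharP C p := (CharP.charP_iff_prime_eq_zero hp.out).2 hC
  have hlow : ∀ (z : C) (j : ℕ), p ≤ j → (GaChar.expp p z 0).coeff j = 0 := fun z j hj => by
    rw [GaChar.coeff_expp_zero, if_neg (not_lt.2 hj)]
  have h1 := congrArg (fun Q => Polynomial.coeff Q 1) (poly_ext (hlow _) (hlow _) h')
  simp only [GaChar.coeff_expp_zero, if_pos hp.out.one_lt, Nat.factorial_one, Nat.cast_one, Ring.inverse_one,
    _root_.one_mul, pow_one] at h1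
  exact av_ext h1

omit [CommRing C] in
/-- The additive group is reflexive in characteristic `p`. -/
theorem isIso_toDoubleDual_of_charP (X : Scheme.{u}) (q : ℕ) [Fact q.Prime] (hq : (q : Γ(X, ⊤)) = 0) :
    IsIso (CGrpSh2.toDoubleDual Scheme.fppfPrecoverage (GaS X)) := by
  refine isIso_of_spec _ fun R _ b => ?_
  have hR : (q : R) = 0 := by
    have h := congrArg (fun z => (Scheme.ΓSpecIso (CommRingCat.of R)).hom (b.appTop z)) hq
    simpa using h
  exact ⟨bidual_injective hR, fun φ => exists_eq_bidual hR φ⟩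

end Groth.Agent.GaDual80
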