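import Groth.Agent.GaDual80.Univ
import Mathlib.RingTheory.AdjoinRoot
import Mathlib.Algebra.DualNumber

/-!
# The additive group is its own double dual in characteristic zero
-/

set_option autoImplicit false
set_option backward.isDefEq.respectTransparency.types false
set_option linter.style.haveILetI false
set_option linter.unusedSectionVars false

universe u

open CategoryTheory Limits AlgebraicGeometry Opposite MonObj
open Groth.Agent.Adeq2Lib Groth.Agent.DualNorm79 Groth.Agent.DualGm79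

namespace Groth.Agent.GaDual80

variable {R : Type u} [CommRing R]

/-- Every positive integer is invertible. -/
def QRing (R : Type u) [CommRing R] : Prop := ∀ n : ℕ, 0 < n → IsUnit (n : R)

theorem QRing.map (hR : QRing R) {R' : Type u} [CommRing R'] (h : R →+* R') : QRing R' := fun n hn => by
  rw [← map_natCast h]
  exact (hR n hn).map h

theorem QRing.algebra (hR : QRing R) : Nonempty (Algebra ℚ R) := by
  have hu : ∀ y : nonZeroDivisors ℤ, IsUnit (Int.castRingHom R (y : ℤ)) := fun y => by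
    have hne : (y : ℤ) ≠ 0 := nonZeroDivisors.ne_zero y.2
    have h := hR _ (Int.natAbs_pos.2 hne)
    rcases Int.natAbs_eq (y : ℤ) with e | e <;> rw [eq_intCast, e]
    · simpa using h
    · simpa using h.neg
  exact ⟨(IsLocalization.lift hu : ℚ →+* R).toAlgebra⟩

theorem inverse_eq_of_algebra [Algebra ℚ R] (n : ℕ) :
    Ring.inverse (n.factorial : R) = algebraMap ℚ R (1 / n.factorial) := by
  have hne : (n.factorial : ℚ) ≠ 0 := Nat.cast_ne_zero.2 (Nat.factorial_ne_zero n)
  have h : (n.factorial : R) = ((Units.map (algebraMap ℚ R : ℚ →* R) (Units.mk0 _ hne) : Rˣ) : R) := by simp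
  rw [h, Ring.inverse_unit, one_div]
  rfl

theorem map_inverse_q {R' : Type u} [CommRing R'] (h : R →+* R') (hR : QRing R) (n : ℕ) :
    h (Ring.inverse (n.factorial : R)) = Ring.inverse (n.factorial : R') := by
  obtain ⟨v, hv⟩ := hR n.factorial n.factorial_pos
  rw [← hv, Ring.inverse_unit, ← map_natCast h, ← hv,
    show h (v : R) = (Units.map (h : R →* R') v : R'ˣ) from rfl, Ring.inverse_unit]
  rfl

/-- The truncated exponential polynomial. -/
noncomputable def texp (N : ℕ) (b : R) : Polynomial R :=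
  ∑ j ∈ Finset.range N, Polynomial.C (Ring.inverse (j.factorial : R) * b ^ j) * Polynomial.X ^ j

theorem coeff_texp (N : ℕ) (b : R) (k : ℕ) :
    (texp N b).coeff k = if k < N then Ring.inverse (k.factorial : R) * b ^ k else 0 := by
  simp only [texp, Polynomial.finsetSum_coeff, Polynomial.coeff_C_mul_X_pow, Finset.sum_ite_eq, Finset.mem_range]

theorem map_texp {R' : Type u} [CommRing R'] (h : R →+* R') (hR : QRing R) (N : ℕ) (b : R) :
    (texp N b).map h = texp N (h b) := by
  simp [texp, Polynomial.map_sum, map_inverse_q h hR]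

theorem texp_eq_of_le {N M : ℕ} {b : R} (hb : b ^ N = 0) (hNM : N ≤ M) : texp M b = texp N b := by
  ext k
  rw [coeff_texp, coeff_texp]
  by_cases hk : k < N
  · rw [if_pos hk, if_pos (lt_of_lt_of_le hk hNM)]
  · rw [if_neg hk]
    split_ifs
    · rw [pow_eq_zero_of_le (not_lt.1 hk) hb, mul_zero]
    · rfl

theorem coe_texp [Algebra ℚ R] {N : ℕ} {b : R} (hb : b ^ N = 0) :
    (texp N b : PowerSeries R) = PowerSeries.rescale b (PowerSeries.exp R) := by
  refine PowerSeries.ext fun k => ?_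
  rw [Polynomial.coeff_coe, coeff_texp, GaChar.coeff_rescale_exp, inverse_eq_of_algebra]
  split_ifs with hk
  · rfl
  · rw [pow_eq_zero_of_le (not_lt.1 hk) hb, mul_zero]

theorem isChar_texp (hR : QRing R) {N : ℕ} {b : R} (hN : 0 < N) (hb : b ^ N = 0) :
    (texp N b).eval 0 = 1 ∧
      Polynomial.aeval (MvPolynomial.X 0 + MvPolynomial.X 1 : MvPolynomial (Fin 2) R) (texp N b) =
        Polynomial.aeval (MvPolynomial.X 0 : MvPolynomial (Fin 2) R) (texp N b) *
          Polynomial.aeval (MvPolynomial.X 1 : MvPolynomial (Fin 2) R) (texp N b) := by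
  obtain ⟨_⟩ := hR.algebra
  obtain ⟨-, h⟩ := (GaChar.rat_iff (texp N b : PowerSeries R)).2 ⟨b, coe_texp hb⟩
  refine ⟨?_, (GaChar.isChar_coe_iff _).1 h⟩
  rw [← Polynomial.coeff_zero_eq_eval_zero, coeff_texp, if_pos hN]
  simp

theorem texp_mul (hR : QRing R) {N : ℕ} {b e : R} (hb : b ^ N = 0) (he : e ^ N = 0) (hbe : (b + e) ^ N = 0) :
    texp N b * texp N e = texp N (b + e) := by
  obtain ⟨_⟩ := hR.algebra
  apply Polynomial.coe_inj.1
  rw [Polynomial.coe_mul, coe_texp hb, coe_texp he, coe_texp hbe]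
  exact PowerSeries.exp_mul_exp_eq_exp_add b e

theorem eval_texp (N : ℕ) (b x : R) :
    (texp N b).eval x = ∑ j ∈ Finset.range N, Ring.inverse (j.factorial : R) * (b * x) ^ j := by
  simp [texp, Polynomial.eval_finsetSum, mul_pow, _root_.mul_assoc]

variable {S : Scheme.{u}} {C : Type u} [CommRing C] {a : Spec (CommRingCat.of C) ⟶ S}

variable (a) in
/-- The exponential characters. -/
noncomputable def che (hC : QRing C) (b : C) (N : ℕ) (hN : 0 < N) (hb : b ^ N = 0) :
    (GaS S).over (Over.mk a) ⟶ (GmS S).over (Over.mk a) :=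
  mk a (texp N b) (isChar_texp hC hN hb).1 (isChar_texp hC hN hb).2

theorem cfun_che (hC : QRing C) (b : C) (N : ℕ) (hN : 0 < N) (hb : b ^ N = 0) :
    cfun (che a hC b N hN hb) = texp N b := cfun_mk _ _ _

variable (hC : QRing C) (φ : (dualS (GaS S)).over (Over.mk a) ⟶ (GmS S).over (Over.mk a))

/-- The value on an exponential character. -/
noncomputable def E (h : C →+* R) (b : R) (N : ℕ) (hN : 0 < N) (hb : b ^ N = 0) : R :=
  gv (val φ (toBase a h) (che (sMap a h) (hC.map h) b N hN hb))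

theorem E_nat {R' : Type u} [CommRing R'] (ψ : R →+* R') (h : C →+* R) (h' : C →+* R') (hh : ψ.comp h = h')
    (b : R) (N : ℕ) (hN : 0 < N) (hb : b ^ N = 0) (b' : R') (hbb : ψ b = b') (hb' : b' ^ N = 0) :
    E hC φ h' b' N hN hb' = ψ (E hC φ h b N hN hb) := by
  subst hh hbb
  let m : Over.mk (sMap a (ψ.comp h)) ⟶ Over.mk (sMap a h) := Over.homMk (Spec.map (CommRingCat.ofHom ψ)) (by
    show _ ≫ _ ≫ a = _ ≫ a
    rw [← Category.assoc, ← Spec.map_comp]
    rfl)
  have hm : m ≫ toBase a h = toBase a (ψ.comp h) := Over.OverMorphism.ext (Spec.map_comp _ _).symm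
  have hch : AffVan.rA (dualS (GaS S)) m (che (sMap a h) (hC.map h) b N hN hb) =
      che (sMap a (ψ.comp h)) (hC.map (ψ.comp h)) (ψ b) N hN hb' := by
    refine eq_of_cfun _ _ ?_
    rw [cfun_res _ m ψ rfl, cfun_che, cfun_che, map_texp ψ (hC.map h)]
  rw [E, E, ← gv_res m ψ rfl, val_res φ m _ _ hm, hch]

theorem E_eq_of_le (h : C →+* R) (b : R) {N M : ℕ} (hN : 0 < N) (hb : b ^ N = 0) (hNM : N ≤ M)
    (hb' : b ^ M = 0) : E hC φ h b M (lt_of_lt_of_le hN hNM) hb' = E hC φ h b N hN hb := by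
  rw [E, E]
  congr 2
  refine eq_of_cfun (che (sMap a h) (hC.map h) b M _ hb') (che (sMap a h) (hC.map h) b N hN hb) ?_
  rw [cfun_che, cfun_che, texp_eq_of_le hb hNM]

theorem E_mul (h : C →+* R) {b e : R} {N : ℕ} (hN : 0 < N) (hb : b ^ N = 0) (he : e ^ N = 0)
    (hbe : (b + e) ^ N = 0) :
    E hC φ h b N hN hb * E hC φ h e N hN he = E hC φ h (b + e) N hN hbe := by
  rw [E, E, E, ← gv_add, ← map_add]
  congr 2
  refine eq_of_cfun (che (sMap a h) (hC.map h) b N hN hb + che (sMap a h) (hC.map h) e N hN he)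
    (che (sMap a h) (hC.map h) (b + e) N hN hbe) ?_
  rw [cfun_add, cfun_che, cfun_che, cfun_che]
  exact texp_mul (hC.map h) hb he hbe

theorem root_pow_n (N : ℕ) : (AdjoinRoot.root (Polynomial.X ^ N : Polynomial C)) ^ N = 0 := by
  have := AdjoinRoot.eval₂_root (Polynomial.X ^ N : Polynomial C)
  simpa using this

theorem poly_ext_n {N : ℕ} {P Q : Polynomial C} (h : AdjoinRoot.mk (Polynomial.X ^ N) P =
    AdjoinRoot.mk (Polynomial.X ^ N : Polynomial C) Q) {j : ℕ} (hj : j < N) : P.coeff j = Q.coeff j := by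
  rw [AdjoinRoot.mk_eq_mk, Polynomial.X_pow_dvd_iff] at h
  exact sub_eq_zero.1 (by rw [← Polynomial.coeff_sub]; exact h j hj)

/-- A polynomial giving the values on exponential characters of order `N + 1`. -/
noncomputable def V (N : ℕ) : Polynomial C :=
  (AdjoinRoot.mk_surjective (E hC φ (AdjoinRoot.of _)
    (AdjoinRoot.root (Polynomial.X ^ (N + 1) : Polynomial C)) (N + 1) N.succ_pos (root_pow_n _))).choose

theorem E_eq (h : C →+* R) (b : R) (N : ℕ) (hb : b ^ (N + 1) = 0) :
    E hC φ h b (N + 1) N.succ_pos hb = (V hC φ N).eval₂ h b := by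
  let ψ : AdjoinRoot (Polynomial.X ^ (N + 1) : Polynomial C) →+* R := AdjoinRoot.lift h b (by simp [hb])
  rw [E_nat hC φ ψ (AdjoinRoot.of _) h (RingHom.ext fun c => by simp [ψ]) (AdjoinRoot.root _) (N + 1) N.succ_pos
    (root_pow_n _) b (AdjoinRoot.lift_root _) hb]
  rw [← (AdjoinRoot.mk_surjective (E hC φ (AdjoinRoot.of _)
    (AdjoinRoot.root (Polynomial.X ^ (N + 1) : Polynomial C)) (N + 1) N.succ_pos (root_pow_n _))).choose_spec]
  exact AdjoinRoot.lift_mk _ _

theorem coeff_V_zero (N : ℕ) : (V hC φ N).coeff 0 = 1 := by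
  have h := E_eq hC φ (RingHom.id C) 0 N (zero_pow N.succ_ne_zero)
  rw [Polynomial.eval₂_at_zero, RingHom.id_apply] at h
  rw [← h, E, show che (sMap a (RingHom.id C)) (hC.map (RingHom.id C)) (0 : C) (N + 1) N.succ_pos
    (zero_pow N.succ_ne_zero) = 0 from eq_of_cfun _ _ ?_]
  · refine (congrArg gv (map_zero (val φ (toBase a (RingHom.id C))))).trans gv_zero
  · rw [cfun_che, cfun_zero]
    ext k
    rw [coeff_texp, Polynomial.coeff_one]
    rcases Nat.eq_zero_or_pos k with rfl | hk
    · simp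
    · rw [zero_pow hk.ne', mul_zero, ite_self, if_neg hk.ne']

theorem coeff_V_mono (N M : ℕ) (hNM : N ≤ M) {j : ℕ} (hj : j ≤ N) : (V hC φ M).coeff j = (V hC φ N).coeff j := by
  let h : C →+* AdjoinRoot (Polynomial.X ^ (N + 1) : Polynomial C) := AdjoinRoot.of _
  have hM : (AdjoinRoot.root (Polynomial.X ^ (N + 1) : Polynomial C)) ^ (M + 1) = 0 :=
    pow_eq_zero_of_le (by omega) (root_pow_n _)
  have key := E_eq_of_le hC φ h (AdjoinRoot.root _) N.succ_pos (root_pow_n _) (show N + 1 ≤ M + 1 by omega) hM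
  rw [E_eq, E_eq] at key
  refine poly_ext_n ?_ (show j < N + 1 by omega)
  rw [← AdjoinRoot.aeval_eq, ← AdjoinRoot.aeval_eq]
  exact key

open TrivSqZeroExt in
theorem V_rel (N j : ℕ) (hj : j ≤ N) :
    (V hC φ (N + 1)).coeff 1 * (V hC φ (N + 1)).coeff j = ((j : C) + 1) * (V hC φ (N + 1)).coeff (j + 1) := by
  let B := AdjoinRoot (Polynomial.X ^ (N + 1) : Polynomial C)
  let T := DualNumber B
  let β : B := AdjoinRoot.root _
  have hβ0 : ∀ m, N + 1 ≤ m → β ^ m = 0 := fun m hm => pow_eq_zero_of_le hm (root_pow_n (C := C) (N + 1))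
  let h : C →+* T := (inlHom B B).comp (AdjoinRoot.of _)
  let e : T := inr 1
  have hε : e ^ 2 = 0 := by rw [sq]; exact inr_mul_inr _ _ _
  have hb : (inl β : T) ^ (N + 1 + 1) = 0 := by
    rw [inl_pow, hβ0 (N + 1 + 1) (by omega), inl_zero]
  have he : e ^ (N + 1 + 1) = 0 := pow_eq_zero_of_le (by omega) hε
  have hbe : ((inl β : T) + e) ^ (N + 1 + 1) = 0 := by
    rw [add_pow]
    refine Finset.sum_eq_zero fun m _ => ?_
    rcases le_or_gt (N + 1) m with hm | hm
    · rw [inl_pow, hβ0 m hm, inl_zero, zero_mul, zero_mul]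
    · rw [pow_eq_zero_of_le (show 2 ≤ N + 1 + 1 - m by omega) hε, mul_zero, zero_mul]
  have key := E_mul hC φ h (N + 1).succ_pos hb he hbe
  rw [E_eq, E_eq, E_eq] at key
  set P := V hC φ (N + 1) with hP
  have htaylor : ∀ (x : T), P.eval₂ h (x + e) = P.eval₂ h x + (Polynomial.derivative P).eval₂ h x * e := fun x => by
    rw [← Polynomial.eval_map, Polynomial.eval_add_of_sq_eq_zero _ _ _ hε, Polynomial.derivative_map,
      Polynomial.eval_map, Polynomial.eval_map]
  have hone : P.eval₂ h e = 1 + h (P.coeff 1) * e := by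
    have h0 := htaylor 0
    rw [zero_add, Polynomial.eval₂_at_zero, Polynomial.eval₂_at_zero, hP, coeff_V_zero, map_one,
      Polynomial.coeff_derivative] at h0
    simpa [hP] using h0
  have hinl : ∀ (Q : Polynomial C), Q.eval₂ h (inl β) = inl (Q.eval₂ (AdjoinRoot.of _) β) := fun Q =>
    (Polynomial.hom_eval₂ Q (AdjoinRoot.of _) (inlHom B B) β).symm
  rw [htaylor, hone, hinl, hinl] at key
  have hz : (inr 1 : T) * inl (AdjoinRoot.of _ (P.coeff 1) * P.eval₂ (AdjoinRoot.of _) β -
      (Polynomial.derivative P).eval₂ (AdjoinRoot.of _) β) = 0 := by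
    rw [inl_sub, inl_mul]
    have hh : h (P.coeff 1) = inl (AdjoinRoot.of _ (P.coeff 1)) := rfl
    rw [hh] at key
    linear_combination key
  rw [inr_mul_inl] at hz
  have k1 : AdjoinRoot.of _ (P.coeff 1) * P.eval₂ (AdjoinRoot.of _) β -
      (Polynomial.derivative P).eval₂ (AdjoinRoot.of _) β = 0 := by
    simpa using congrArg TrivSqZeroExt.snd hz
  have hmk : ∀ Q : Polynomial C, AdjoinRoot.mk _ Q = Q.eval₂ (AdjoinRoot.of _) β := fun Q => by
    rw [← AdjoinRoot.aeval_eq]; rfl
  have h2 := poly_ext_n (N := N + 1) (P := Polynomial.C (P.coeff 1) * P) (Q := Polynomial.derivative P)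
    (by rw [map_mul, AdjoinRoot.mk_C, hmk, hmk]; exact sub_eq_zero.1 k1) (show j < N + 1 by omega)
  rw [Polynomial.coeff_C_mul, Polynomial.coeff_derivative] at h2
  rw [h2, mul_comm]

theorem coeff_V (N j : ℕ) (hj : j ≤ N) :
    (V hC φ N).coeff j = Ring.inverse (j.factorial : C) * (V hC φ 1).coeff 1 ^ j := by
  induction j with
  | zero => simp [coeff_V_zero]
  | succ j ih =>
    rw [← coeff_V_mono hC φ N (N + 1) (Nat.le_succ N) hj]
    have h := V_rel hC φ N j (by omega)
    rw [coeff_V_mono hC φ 1 (N + 1) (by omega) le_rfl, coeff_V_mono hC φ N (N + 1) (Nat.le_succ N) (j := j) (by omega),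
      ih (by omega)] at h
    have h1 := Ring.inverse_mul_cancel _ (hC (j + 1).factorial (Nat.factorial_pos _))
    have h2 := Ring.mul_inverse_cancel _ (hC j.factorial (Nat.factorial_pos _))
    have h3 : ((j + 1).factorial : C) = ((j : C) + 1) * (j.factorial : C) := by
      rw [Nat.factorial_succ, Nat.cast_mul, Nat.cast_add, Nat.cast_one]
    set v := Ring.inverse ((j + 1).factorial : C)
    set w := Ring.inverse (j.factorial : C)
    set t := (V hC φ 1).coeff 1
    set c := (V hC φ (N + 1)).coeff (j + 1)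
    linear_combination -(v * (j.factorial : C)) * h - c * h1 + (v * c) * h3 + (v * t ^ (j + 1)) * h2

theorem E_formula (h : C →+* R) (b : R) (N : ℕ) (hb : b ^ (N + 1) = 0) :
    E hC φ h b (N + 1) N.succ_pos hb =
      ∑ j ∈ Finset.range (N + 1), Ring.inverse (j.factorial : R) * (b * h ((V hC φ 1).coeff 1)) ^ j := by
  rw [E_eq, Polynomial.eval₂_eq_sum_range' h (n := max (N + 1) ((V hC φ N).natDegree + 1))
    (lt_of_lt_of_le (Nat.lt_succ_self _) (le_max_right _ _)) b]
  rw [← Finset.sum_subset (Finset.range_subset_range.2 (le_max_left _ _)) (fun j _ hj => by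
    rw [pow_eq_zero_of_le (not_lt.1 (Finset.mem_range.not.1 hj)) hb, mul_zero])]
  refine Finset.sum_congr rfl fun j hj => ?_
  rw [coeff_V hC φ N j (by have := Finset.mem_range.1 hj; omega), map_mul, map_pow, map_inverse_q h hC, mul_pow]
  ring

include hC in
/-- The double duality map is surjective over spectra. -/
theorem exists_eq_bidual_zero : ∃ x : (GaS S).obj.obj (op (Over.mk a)),
    (CGrpSh2.toDoubleDual Scheme.fppfPrecoverage (GaS S)).hom.app (op (Over.mk a)) x = φ := by
  refine ⟨ofV a ((V hC φ 1).coeff 1), ext_spec fun R _ b k χ => ?_⟩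
  obtain ⟨h, hk⟩ := exists_hom k
  obtain rfl : b = sMap a h := by
    rw [sMap, ← hk]
    exact (Over.w k).symm
  obtain rfl : k = toBase a h := Over.OverMorphism.ext hk
  refine gv_ext ?_
  rw [gv_val_bidual _ _ h rfl, av_ofV]
  obtain ⟨_⟩ := (hC.map h).algebra
  let χ' : (GaS S).over (Over.mk (sMap a h)) ⟶ (GmS S).over (Over.mk (sMap a h)) := χ
  obtain ⟨c, hc⟩ := (GaChar.rat_iff (cfun χ' : PowerSeries R)).1 ⟨by
    rw [← PowerSeries.coeff_zero_eq_constantCoeff_apply, Polynomial.coeff_coe, Polynomial.coeff_zero_eq_eval_zero,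
      eval_zero_cfun], isChar_cfun χ'⟩
  have hc0 : c ^ ((cfun χ').natDegree + 1) = 0 := by
    have h1 := congrArg (PowerSeries.coeff ((cfun χ').natDegree + 1)) hc
    rw [Polynomial.coeff_coe, Polynomial.coeff_eq_zero_of_natDegree_lt (Nat.lt_succ_self _),
      GaChar.coeff_rescale_exp] at h1
    exact ((IsUnit.mk0 _ (one_div_ne_zero (Nat.cast_ne_zero.mpr (Nat.factorial_ne_zero _)))).map
      (algebraMap ℚ R)).mul_right_eq_zero.mp h1.symm
  have hcf : cfun χ' = texp ((cfun χ').natDegree + 1) c := Polynomial.coe_inj.1 (hc.trans (coe_texp hc0).symm)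
  have hχ : χ' = che (sMap a h) (hC.map h) c ((cfun χ').natDegree + 1) (Nat.succ_pos _) hc0 :=
    eq_of_cfun _ _ (hcf.trans (cfun_che _ _ _ _ _).symm)
  show (cfun χ').eval _ = gv (val φ (toBase a h) χ')
  rw [hcf, eval_texp]
  conv_rhs => rw [hχ]
  exact (E_formula hC φ h c _ hc0).symm

set_option maxHeartbeats 1000000 in
include hC in
/-- The double duality map is injective over spectra. -/
theorem bidual_injective_zero : Function.Injective
    ((CGrpSh2.toDoubleDual Scheme.fppfPrecoverage (GaS S)).hom.app (op (Over.mk a))) := by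
  intro x y hxy
  let h : C →+* AdjoinRoot (Polynomial.X ^ 2 : Polynomial C) := AdjoinRoot.of _
  have key : ∀ z : (GaS S).obj.obj (op (Over.mk a)),
      gv (val ((CGrpSh2.toDoubleDual Scheme.fppfPrecoverage (GaS S)).hom.app (op (Over.mk a)) z) (toBase a h)
        (che (sMap a h) (hC.map h) (AdjoinRoot.root _) 2 two_pos (root_pow_n 2))) =
        AdjoinRoot.mk (Polynomial.X ^ 2 : Polynomial C) (1 + Polynomial.C (av z) * Polynomial.X) := by
    intro z
    rw [gv_val_bidual _ _ h rfl, cfun_che, eval_texp, Finset.sum_range_succ, Finset.sum_range_one, map_add,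
      map_one, map_mul, AdjoinRoot.mk_C, AdjoinRoot.mk_X]
    simp [h]
    ring
  have h' : AdjoinRoot.mk (Polynomial.X ^ 2 : Polynomial C) (1 + Polynomial.C (av x) * Polynomial.X) =
      AdjoinRoot.mk (Polynomial.X ^ 2 : Polynomial C) (1 + Polynomial.C (av y) * Polynomial.X) := by
    rw [← key x, ← key y, hxy]
  have h1 := poly_ext_n h' (show 1 < 2 by omega)
  simp [Polynomial.coeff_one] at h1
  exact av_ext h1

/-- The additive group is reflexive over schemes over the rationals. -/
theorem isIso_toDoubleDual_of_charZero (X : Scheme.{u}) (hQ : ∀ n : ℕ, 0 < n → IsUnit (n : Γ(X, ⊤))) :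
    IsIso (CGrpSh2.toDoubleDual Scheme.fppfPrecoverage (GaS X)) := by
  refine isIso_of_spec _ fun R _ b => ?_
  have hR : QRing R := fun n hn => by
    have h := ((hQ n hn).map b.appTop.hom).map (Scheme.ΓSpecIso (CommRingCat.of R)).hom.hom
    rwa [map_natCast, map_natCast] at h
  exact ⟨bidual_injective_zero hR, fun φ => exists_eq_bidual_zero hR φ⟩

end Groth.Agent.GaDual80
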