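import Groth.Agent.DualGm79.Univ
import Groth.Agent.GrpSchLib.GaPts
import Groth.Agent.GaChar.Basic
import Mathlib.RingTheory.Polynomial.Nilpotent

/-!
# Homomorphisms from the additive to the multiplicative group over a spectrum are polynomials
-/

set_option autoImplicit false
set_option backward.isDefEq.respectTransparency.types false

set_option linter.style.haveILetI false

universe u

open CategoryTheory Limits AlgebraicGeometry Opposite MonObj
open Groth.Agent.Adeq2Lib Groth.Agent.DualNorm79 Groth.Agent.DualGm79 Groth.Agent.GrpSchLib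

namespace Groth.Agent.GaDual80

variable {S : Scheme.{u}}

/-- The additive group as an fppf sheaf. -/
noncomputable abbrev GaS (S : Scheme.{u}) : AffVan.AbT S := CGrpSh2.Ga Scheme.fppfPrecoverage S

/-- The function of a section of the additive group. -/
noncomputable def afn {T : Over S} (x : (GaS S).obj.obj (op T)) : Γ(T.left, ⊤) := Red.gaFn (Additive.toMul x.down)

theorem afn_ext {T : Over S} {x y : (GaS S).obj.obj (op T)} (h : afn x = afn y) : x = y :=
  ULift.ext _ _ (Additive.toMul.injective (GaPts.gaFn_injective h))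

theorem afn_add {T : Over S} (x y : (GaS S).obj.obj (op T)) : afn (x + y) = afn x + afn y := GaPts.gaFn_mul _ _

theorem afn_res {T U : Over S} (g : U ⟶ T) (x : (GaS S).obj.obj (op T)) :
    afn (AffVan.rA (GaS S) g x) = g.left.appTop (afn x) := GaPts.gaFn_comp _ _

theorem exists_afn {T : Over S} (v : Γ(T.left, ⊤)) : ∃ x : (GaS S).obj.obj (op T), afn x = v :=
  ⟨ULift.up (Additive.ofMul (GaPts.ptOfFn v)), GaPts.gaFn_ptOfFn v⟩

/-- The section of the additive group attached to a function. -/
noncomputable def ofA {T : Over S} (v : Γ(T.left, ⊤)) : (GaS S).obj.obj (op T) := (exists_afn v).choose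

theorem afn_ofA {T : Over S} (v : Γ(T.left, ⊤)) : afn (ofA (T := T) v) = v := (exists_afn v).choose_spec

/-- The value attached to a section over a spectrum. -/
noncomputable def av {R : Type u} [CommRing R] {b : Spec (CommRingCat.of R) ⟶ S}
    (x : (GaS S).obj.obj (op (Over.mk b))) : R :=
  (Scheme.ΓSpecIso (CommRingCat.of R)).hom (afn x)

theorem av_ext {R : Type u} [CommRing R] {b : Spec (CommRingCat.of R) ⟶ S}
    {x y : (GaS S).obj.obj (op (Over.mk b))} (h : av x = av y) : x = y :=
  afn_ext ((ConcreteCategory.bijective_of_isIso (Scheme.ΓSpecIso (CommRingCat.of R)).hom).1 h)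

theorem av_add {R : Type u} [CommRing R] {b : Spec (CommRingCat.of R) ⟶ S}
    (x y : (GaS S).obj.obj (op (Over.mk b))) : av (x + y) = av x + av y := by
  rw [av, av, av, afn_add, map_add]

theorem av_zero {R : Type u} [CommRing R] {b : Spec (CommRingCat.of R) ⟶ S} :
    av (0 : (GaS S).obj.obj (op (Over.mk b))) = 0 := by
  have h := av_add (b := b) 0 0
  rw [add_zero] at h
  exact add_left_cancel (a := av (0 : (GaS S).obj.obj (op (Over.mk b)))) (by rw [add_zero]; exact h.symm)

theorem av_res {R R' : Type u} [CommRing R] [CommRing R'] {b : Spec (CommRingCat.of R) ⟶ S}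
    {b' : Spec (CommRingCat.of R') ⟶ S} (m : Over.mk b' ⟶ Over.mk b) (h : R →+* R')
    (hm : m.left = Spec.map (CommRingCat.ofHom h)) (x : (GaS S).obj.obj (op (Over.mk b))) :
    av (AffVan.rA (GaS S) m x) = h (av x) := by
  rw [av, av, afn_res, hm]
  exact ConcreteCategory.congr_hom (Scheme.ΓSpecIso_naturality (CommRingCat.ofHom h)) (afn x)

theorem exists_av {R : Type u} [CommRing R] (b : Spec (CommRingCat.of R) ⟶ S) (t : R) :
    ∃ x : (GaS S).obj.obj (op (Over.mk b)), av x = t :=
  ⟨ofA (T := Over.mk b) ((Scheme.ΓSpecIso (CommRingCat.of R)).inv t), by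
    rw [av, afn_ofA, Iso.inv_hom_id_apply]⟩

/-- The section over a spectrum with a given value. -/
noncomputable def ofV {R : Type u} [CommRing R] (b : Spec (CommRingCat.of R) ⟶ S) (t : R) :
    (GaS S).obj.obj (op (Over.mk b)) := (exists_av b t).choose

theorem av_ofV {R : Type u} [CommRing R] (b : Spec (CommRingCat.of R) ⟶ S) (t : R) : av (ofV b t) = t :=
  (exists_av b t).choose_spec

variable {C : Type u} [CommRing C] (a : Spec (CommRingCat.of C) ⟶ S)

/-- The structure map of a spectrum over `a`. -/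
noncomputable abbrev sMap {R : Type u} [CommRing R] (h : C →+* R) : Spec (CommRingCat.of R) ⟶ S :=
  Spec.map (CommRingCat.ofHom h) ≫ a

/-- A spectrum over `a`, as a morphism. -/
noncomputable abbrev toBase {R : Type u} [CommRing R] (h : C →+* R) : Over.mk (sMap a h) ⟶ Over.mk a :=
  Over.homMk (Spec.map (CommRingCat.ofHom h)) rfl

variable {a}

theorem exists_hom {R : Type u} [CommRing R] {b : Spec (CommRingCat.of R) ⟶ S} (k : Over.mk b ⟶ Over.mk a) :
    ∃ h : C →+* R, k.left = Spec.map (CommRingCat.ofHom h) :=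
  ⟨(Spec.preimage k.left).hom, (Spec.map_preimage (R := CommRingCat.of C) (S := CommRingCat.of R) k.left).symm⟩

/-- The polynomial of a homomorphism. -/
noncomputable def cfun (χ : (GaS S).over (Over.mk a) ⟶ (GmS S).over (Over.mk a)) : Polynomial C :=
  gv (val χ (toBase a Polynomial.C) (ofV (sMap a Polynomial.C) Polynomial.X))

variable (χ χ' : (GaS S).over (Over.mk a) ⟶ (GmS S).over (Over.mk a))

theorem gv_val {R : Type u} [CommRing R] {b : Spec (CommRingCat.of R) ⟶ S} (k : Over.mk b ⟶ Over.mk a) (h : C →+* R)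
    (hk : k.left = Spec.map (CommRingCat.ofHom h)) (x : (GaS S).obj.obj (op (Over.mk b))) :
    gv (val χ k x) = (cfun χ).eval₂ h (av x) := by
  let e : Polynomial C →+* R := Polynomial.eval₂RingHom h (av x)
  have he : e.comp Polynomial.C = h := RingHom.ext fun c => Polynomial.eval₂_C h (av x)
  have hm₀ : Spec.map (CommRingCat.ofHom e) ≫ Spec.map (CommRingCat.ofHom (Polynomial.C : C →+* Polynomial C)) =
      Spec.map (CommRingCat.ofHom h) := by
    rw [← Spec.map_comp, ← CommRingCat.ofHom_comp, he]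
  let m : Over.mk b ⟶ Over.mk (sMap a Polynomial.C) := Over.homMk (Spec.map (CommRingCat.ofHom e)) (by
    show _ ≫ _ ≫ a = b
    rw [← Category.assoc, hm₀, ← hk]
    exact Over.w k)
  have hmx : AffVan.rA (GaS S) m (ofV (sMap a Polynomial.C) Polynomial.X) = x := av_ext (by
    rw [av_res m e rfl, av_ofV]
    exact Polynomial.eval₂_X h (av x))
  show _ = e (cfun χ)
  rw [cfun, ← gv_res m e rfl]
  refine congrArg gv (((congrArg (val χ k) hmx).symm).trans (val_res χ m _ k ?_ _).symm)
  exact Over.OverMorphism.ext (hm₀.trans hk.symm)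

theorem cfun_add : cfun (χ + χ') = cfun χ * cfun χ' := gv_add _ _

theorem cfun_zero : cfun (0 : (GaS S).over (Over.mk a) ⟶ (GmS S).over (Over.mk a)) = 1 := gv_zero

theorem eval_zero_cfun : (cfun χ).eval 0 = 1 := by
  have h := gv_val χ (𝟙 (Over.mk a)) (RingHom.id C) (by
      show 𝟙 (Spec (CommRingCat.of C)) = _
      rw [CommRingCat.ofHom_id, Spec.map_id]) 0
  rw [map_zero, gv_zero, av_zero] at h
  exact h.symm

theorem mul_cfun :
    Polynomial.aeval (MvPolynomial.X 0 + MvPolynomial.X 1 : MvPolynomial (Fin 2) C) (cfun χ) =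
      Polynomial.aeval (MvPolynomial.X 0 : MvPolynomial (Fin 2) C) (cfun χ) *
        Polynomial.aeval (MvPolynomial.X 1 : MvPolynomial (Fin 2) C) (cfun χ) := by
  let h : C →+* MvPolynomial (Fin 2) C := algebraMap C (MvPolynomial (Fin 2) C)
  have hg := gv_add (val χ (toBase a h) (ofV (sMap a h) (MvPolynomial.X 0)))
    (val χ (toBase a h) (ofV (sMap a h) (MvPolynomial.X 1)))
  rw [← map_add, gv_val χ _ h rfl, gv_val χ _ h rfl, gv_val χ _ h rfl, av_add, av_ofV, av_ofV] at hg
  simpa only [Polynomial.aeval_def] using hg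

theorem isChar_cfun : GaChar.IsChar (cfun χ : PowerSeries C) :=
  (GaChar.isChar_coe_iff _).2 (mul_cfun χ)

/-- Functions on a test object over `a`. -/
noncomputable def γ {W : Over S} (k : W ⟶ Over.mk a) : C →+* Γ(W.left, ⊤) :=
  k.left.appTop.hom.comp (Scheme.ΓSpecIso (CommRingCat.of C)).inv.hom

theorem γ_comp {W W' : Over S} (m : W' ⟶ W) (k : W ⟶ Over.mk a) :
    γ (m ≫ k) = m.left.appTop.hom.comp (γ k) := by
  rw [γ, γ, Over.comp_left, Scheme.Hom.comp_appTop, CommRingCat.hom_comp, RingHom.comp_assoc]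

theorem γ_spec {R : Type u} [CommRing R] {b : Spec (CommRingCat.of R) ⟶ S} (k : Over.mk b ⟶ Over.mk a) (h : C →+* R)
    (hk : k.left = Spec.map (CommRingCat.ofHom h)) (c : C) :
    (Scheme.ΓSpecIso (CommRingCat.of R)).hom (γ k c) = h c := by
  have h1 := ConcreteCategory.congr_hom (Scheme.ΓSpecIso_naturality (CommRingCat.ofHom h))
    ((Scheme.ΓSpecIso (CommRingCat.of C)).inv c)
  refine (Eq.trans ?_ h1).trans ?_
  · show (Scheme.ΓSpecIso (CommRingCat.of R)).hom (k.left.appTop _) = _
    rw [hk]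
    rfl
  · show h ((Scheme.ΓSpecIso (CommRingCat.of C)).hom ((Scheme.ΓSpecIso (CommRingCat.of C)).inv c)) = h c
    rw [Iso.inv_hom_id_apply]

theorem eval₂_add_eq {R : Type u} [CommRing R] {f : Polynomial C}
    (hf : Polynomial.aeval (MvPolynomial.X 0 + MvPolynomial.X 1 : MvPolynomial (Fin 2) C) f =
      Polynomial.aeval (MvPolynomial.X 0 : MvPolynomial (Fin 2) C) f *
        Polynomial.aeval (MvPolynomial.X 1 : MvPolynomial (Fin 2) C) f)
    (h : C →+* R) (x y : R) : f.eval₂ h (x + y) = f.eval₂ h x * f.eval₂ h y := by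
  letI := h.toAlgebra
  have := congrArg (MvPolynomial.aeval (R := C) ![x, y]) hf
  rw [map_mul, ← Polynomial.aeval_algHom_apply, ← Polynomial.aeval_algHom_apply,
    ← Polynomial.aeval_algHom_apply, map_add] at this
  simpa [Polynomial.aeval_def, RingHom.algebraMap_toAlgebra] using this

/-- The value of a polynomial character on a section. -/
noncomputable def chVal (f : Polynomial C) (h0 : f.eval 0 = 1)
    (hf : Polynomial.aeval (MvPolynomial.X 0 + MvPolynomial.X 1 : MvPolynomial (Fin 2) C) f =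
      Polynomial.aeval (MvPolynomial.X 0 : MvPolynomial (Fin 2) C) f *
        Polynomial.aeval (MvPolynomial.X 1 : MvPolynomial (Fin 2) C) f)
    (W : Over S) (k : W ⟶ Over.mk a) : (GaS S).obj.obj (op W) →+ (GmS S).obj.obj (op W) :=
  have hu : ∀ v : Γ(W.left, ⊤), IsUnit (f.eval₂ (γ k) v) := fun v => IsUnit.of_mul_eq_one (f.eval₂ (γ k) (-v))
    (by rw [← eval₂_add_eq hf, add_neg_cancel, Polynomial.eval₂_at_zero, Polynomial.coeff_zero_eq_eval_zero, h0,
      map_one])
  AddMonoidHom.mk' (fun x => ULift.up (Additive.ofMul (GmPts.ptOfUnit (hu (afn x)).unit)))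
    fun x y => fn_ext (by
      rw [fn_add]
      show Red.gmFn (GmPts.ptOfUnit _) = Red.gmFn (GmPts.ptOfUnit _) * Red.gmFn (GmPts.ptOfUnit _)
      rw [GmPts.gmFn_ptOfUnit, GmPts.gmFn_ptOfUnit, GmPts.gmFn_ptOfUnit, IsUnit.unit_spec, IsUnit.unit_spec,
        IsUnit.unit_spec, afn_add, eval₂_add_eq hf])

variable (a) in
/-- The homomorphism defined by a polynomial character. -/
noncomputable def mk (f : Polynomial C) (h0 : f.eval 0 = 1)
    (hf : Polynomial.aeval (MvPolynomial.X 0 + MvPolynomial.X 1 : MvPolynomial (Fin 2) C) f =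
      Polynomial.aeval (MvPolynomial.X 0 : MvPolynomial (Fin 2) C) f *
        Polynomial.aeval (MvPolynomial.X 1 : MvPolynomial (Fin 2) C) f) :
    (GaS S).over (Over.mk a) ⟶ (GmS S).over (Over.mk a) :=
  mkHom (chVal f h0 hf) fun W W' m k k' hk x => fn_ext (by
    subst hk
    rw [fn_res]
    show m.left.appTop (Red.gmFn (GmPts.ptOfUnit _)) = Red.gmFn (GmPts.ptOfUnit _)
    rw [GmPts.gmFn_ptOfUnit, GmPts.gmFn_ptOfUnit, IsUnit.unit_spec, IsUnit.unit_spec, afn_res, γ_comp,
      Polynomial.hom_eval₂])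

theorem cfun_mk (f : Polynomial C) (h0 : f.eval 0 = 1) (hf) : cfun (mk a f h0 hf) = f := by
  rw [cfun, gv, mk, val_mkHom]
  show (Scheme.ΓSpecIso (CommRingCat.of (Polynomial C))).hom
    (Red.gmFn (X := Over.mk (sMap a Polynomial.C)) (GmPts.ptOfUnit _)) = f
  rw [GmPts.gmFn_ptOfUnit, IsUnit.unit_spec, Polynomial.hom_eval₂]
  have he : (Scheme.ΓSpecIso (CommRingCat.of (Polynomial C))).hom.hom.comp (γ (toBase a Polynomial.C)) =
      (Polynomial.C : C →+* Polynomial C) := RingHom.ext fun c => γ_spec _ _ rfl c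
  rw [he]
  show Polynomial.eval₂ Polynomial.C (av (ofV (sMap a Polynomial.C) Polynomial.X)) f = f
  rw [av_ofV, Polynomial.eval₂_C_X]

/-- Morphisms to the multiplicative group agreeing on spectra are equal. -/
theorem ext_spec {F : AffVan.AbT S} {Y : Over S} {χ χ' : F.over Y ⟶ (GmS S).over Y}
    (h : ∀ (R : Type u) [CommRing R] (b : Spec (CommRingCat.of R) ⟶ S) (k : Over.mk b ⟶ Y)
      (x : F.obj.obj (op (Over.mk b))), val χ k x = val χ' k x) : χ = χ' := by
  refine val_ext fun W k x => ?_
  let V : W.left.affineCover.I₀ → Over S := fun j => Over.mk (W.left.affineCover.f j ≫ W.hom)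
  let v : ∀ j, V j ⟶ W := fun j => Over.homMk (W.left.affineCover.f j)
  refine AffVan.eq_of_cover (GmS S) V v
    (Precoverage.toGrothendieck_mono Scheme.zariskiPrecoverage_le_fppfPrecoverage _
      W.left.affineCover.mem_grothendieckTopology) _ _ fun j => ?_
  rw [val_res χ (v j) k _ rfl, val_res χ' (v j) k _ rfl]
  let R := Γ(W.left.affineCover.X j, ⊤)
  let b : Spec (CommRingCat.of R) ⟶ S := (W.left.affineCover.X j).isoSpec.inv ≫ W.left.affineCover.f j ≫ W.hom
  let w : Over.mk b ⟶ V j := Over.homMk (W.left.affineCover.X j).isoSpec.inv rfl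
  haveI : IsIso w.left := inferInstanceAs (IsIso (W.left.affineCover.X j).isoSpec.inv)
  have key := h R b (w ≫ v j ≫ k) (AffVan.rA F w (AffVan.rA F (v j) x))
  rw [← val_res χ w (v j ≫ k) _ rfl, ← val_res χ' w (v j ≫ k) _ rfl] at key
  refine fn_ext ?_
  have h1 := congrArg fn key
  rw [fn_res, fn_res] at h1
  haveI : IsIso w.left.appTop := Functor.map_isIso Scheme.Γ w.left.op
  exact (ConcreteCategory.bijective_of_isIso w.left.appTop).1 h1

theorem eq_of_cfun (h : cfun χ = cfun χ') : χ = χ' := by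
  refine ext_spec fun R _ b k x => gv_ext ?_
  obtain ⟨hR, hh⟩ := exists_hom k
  rw [gv_val χ k hR hh, gv_val χ' k hR hh, h]

theorem cfun_res {C' : Type u} [CommRing C'] {a' : Spec (CommRingCat.of C') ⟶ S} (m : Over.mk a' ⟶ Over.mk a)
    (h : C →+* C') (hm : m.left = Spec.map (CommRingCat.ofHom h)) :
    cfun (AffVan.rA (dualS (GaS S)) m χ) = (cfun χ).map h := by
  refine (gv_val χ (toBase a' Polynomial.C ≫ m) ((Polynomial.C).comp h) ?_ _).trans ?_
  · refine (congrArg (Spec.map (CommRingCat.ofHom (Polynomial.C : C' →+* Polynomial C')) ≫ ·) hm).trans ?_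
    exact (Spec.map_comp _ _).symm
  · rw [av_ofV]
    rfl

theorem cfun_sum {I : Type*} (s : Finset I) (ψ : I → ((GaS S).over (Over.mk a) ⟶ (GmS S).over (Over.mk a))) :
    cfun (∑ i ∈ s, ψ i) = ∏ i ∈ s, cfun (ψ i) := by
  classical
  induction s using Finset.induction with
  | empty => exact cfun_zero
  | insert i s hi ih => rw [Finset.sum_insert hi, Finset.prod_insert hi, cfun_add, ih]

/-- The value of the double duality map. -/
theorem gv_val_bidual (x : (GaS S).obj.obj (op (Over.mk a))) {R : Type u} [CommRing R]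
    {b : Spec (CommRingCat.of R) ⟶ S} (k : Over.mk b ⟶ Over.mk a) (h : C →+* R)
    (hk : k.left = Spec.map (CommRingCat.ofHom h)) (χ : (dualS (GaS S)).obj.obj (op (Over.mk b))) :
    gv (val ((CGrpSh2.toDoubleDual Scheme.fppfPrecoverage (GaS S)).hom.app (op (Over.mk a)) x) k χ) =
      (cfun χ).eval (h (av x)) := by
  show gv (val (show (GaS S).over (Over.mk b) ⟶ (GmS S).over (Over.mk b) from χ) (𝟙 _)
    (AffVan.rA (GaS S) k x)) = _
  rw [gv_val _ (𝟙 _) (RingHom.id R) (by
    show 𝟙 (Spec (CommRingCat.of R)) = _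
    rw [CommRingCat.ofHom_id, Spec.map_id]), av_res k h hk]
  rfl

/-- A sheaf map bijective on sections over spectra is an isomorphism. -/
theorem isIso_of_spec {F G : AffVan.AbT S} (φ : F ⟶ G)
    (h : ∀ (R : Type u) [CommRing R] (b : Spec (CommRingCat.of R) ⟶ S),
      Function.Bijective (φ.hom.app (op (Over.mk b)))) : IsIso φ := by
  haveI : Mono φ := by
    suffices Mono φ.hom from Sheaf.Hom.mono_of_presheaf_mono _ _ φ
    refine @NatTrans.mono_of_mono_app _ _ _ _ _ _ φ.hom fun W => ?_
    obtain ⟨W⟩ := W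
    refine (AddCommGrpCat.mono_iff_injective _).2 fun x y hxy => ?_
    let V : W.left.affineCover.I₀ → Over S := fun j => Over.mk (W.left.affineCover.f j ≫ W.hom)
    let v : ∀ j, V j ⟶ W := fun j => Over.homMk (W.left.affineCover.f j)
    refine AffVan.eq_of_cover F V v
      (Precoverage.toGrothendieck_mono Scheme.zariskiPrecoverage_le_fppfPrecoverage _
        W.left.affineCover.mem_grothendieckTopology) _ _ fun j => ?_
    let R := Γ(W.left.affineCover.X j, ⊤)
    let b : Spec (CommRingCat.of R) ⟶ S := (W.left.affineCover.X j).isoSpec.inv ≫ W.left.affineCover.f j ≫ W.hom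
    let w : Over.mk b ≅ V j := Over.isoMk (W.left.affineCover.X j).isoSpec.symm rfl
    have hb : Function.Bijective (AffVan.rA F w.hom) :=
      ConcreteCategory.bijective_of_isIso (F.obj.map w.hom.op)
    refine hb.1 ((h R b).1 ?_)
    have hn : ∀ z, φ.hom.app _ (AffVan.rA F w.hom (AffVan.rA F (v j) z)) =
        AffVan.rA G w.hom (AffVan.rA G (v j) (φ.hom.app (op W) z)) := fun z =>
      (ConcreteCategory.congr_hom (φ.hom.naturality w.hom.op) _).trans
        (congrArg _ (ConcreteCategory.congr_hom (φ.hom.naturality (v j).op) z))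
    rw [hn, hn, hxy]
  haveI : LocallySmall.{u + 1} (Over S) := ⟨fun _ _ => inferInstance⟩
  haveI : Epi φ := by
    refine (Sheaf.isLocallySurjective_iff_epi' AddCommGrpCat.{u + 1} φ).1 ⟨fun {W} y => ?_⟩
    let V : W.left.affineCover.I₀ → Over S := fun j => Over.mk (W.left.affineCover.f j ≫ W.hom)
    let v : ∀ j, V j ⟶ W := fun j => Over.homMk (W.left.affineCover.f j)
    have hV : Sieve.ofArrows V v ∈ (QuotSh.J Scheme.fppfPrecoverage S) W := by
      show Sieve.overEquiv W (Sieve.ofArrows V v) ∈ Scheme.fppfPrecoverage.toGrothendieck W.left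
      rw [Sieve.overEquiv_ofArrows]
      exact Precoverage.toGrothendieck_mono Scheme.zariskiPrecoverage_le_fppfPrecoverage _
        W.left.affineCover.mem_grothendieckTopology
    refine GrothendieckTopology.superset_covering _ ?_ hV
    rintro Z g ⟨_, g', _, ⟨j⟩, rfl⟩
    let R := Γ(W.left.affineCover.X j, ⊤)
    let b : Spec (CommRingCat.of R) ⟶ S := (W.left.affineCover.X j).isoSpec.inv ≫ W.left.affineCover.f j ≫ W.hom
    let w : Over.mk b ≅ V j := Over.isoMk (W.left.affineCover.X j).isoSpec.symm rfl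
    obtain ⟨x, hx⟩ := (h R b).2 (AffVan.rA G (w.hom ≫ v j) y)
    refine ⟨AffVan.rA F (g' ≫ w.inv) x, ?_⟩
    refine (ConcreteCategory.congr_hom (φ.hom.naturality (g' ≫ w.inv).op) x).trans ?_
    refine (congrArg (AffVan.rA G (g' ≫ w.inv)) hx).trans ?_
    show G.obj.map _ (G.obj.map _ y) = G.obj.map _ y
    rw [← ConcreteCategory.comp_apply, ← Functor.map_comp, ← op_comp]
    simp
  exact isIso_of_mono_of_epi φ

end Groth.Agent.GaDual80
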